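import Groth.Agent.SixBC12.Ab
import Groth.Agent.EtModAb.BaseChange
import Groth.Agent.EtLC12.ModPullExact

/-! proper base change on bounded below derived categories of sheaves of modules -/

set_option autoImplicit false
set_option linter.style.haveILetI false
set_option backward.isDefEq.respectTransparency false
set_option backward.isDefEq.respectTransparency.types false
set_option maxHeartbeats 1000000

universe u

open CategoryTheory CategoryTheory.Limits AlgebraicGeometry HomologicalComplex

attribute [local instance] HasDerivedCategory.standard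

namespace Groth.Agent.SixBC12

variable (Λ : Type (u + 1)) [CommRing Λ] {X S X' S' : Scheme.{u}} (f : X ⟶ S) (g : S' ⟶ S) (f' : X' ⟶ S')
  (g' : X' ⟶ X) (h : IsPullback g' f' f g) [IsProper f]

include h in
/-- the chain map on complexes of injective sheaves of modules is a quasi-isomorphism -/
theorem quasiIso_bcCx_mod {I : CochainComplex.Plus (EtModW.Mod Λ X)} {J : CochainComplex.Plus (EtModW.Mod Λ X')}
    (hI : ∀ n, Injective (I.obj.X n)) (hJ : ∀ n, Injective (J.obj.X n))
    (htor : ∀ i, EtCoh.IsTorsion ((EtModD.forgetToAb Λ X).obj (I.obj.homology i)))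
    (σ : (EtModW.pull Λ g').mapCochainComplexPlus.obj I ⟶ J) (hσ : QuasiIso σ.hom) :
    QuasiIso (BcBridge.bcCx (EtSix.pullPushModAdj Λ g) (EtSix.pushToPushPullMod Λ f g f' g' h.w) σ.hom) := by
  let θ := NatTrans.mapHomologicalComplex (EtModAb.pullForget Λ g') (ComplexShape.up ℤ)
  haveI : ∀ n, IsIso ((θ.app I.obj).f n) := fun n => EtModAb.isIso_pullForget Λ g' _
  haveI : IsIso (θ.app I.obj) := HomologicalComplex.Hom.isIso_of_components _
  let σA : (EtCoh.pull g').mapCochainComplexPlus.obj ((EtModD.forgetToAb Λ X).mapCochainComplexPlus.obj I) ⟶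
      (EtModD.forgetToAb Λ X').mapCochainComplexPlus.obj J :=
    ObjectProperty.homMk (θ.app I.obj ≫ ((EtModD.forgetToAb Λ X').mapHomologicalComplex _).map σ.hom)
  haveI := hσ
  have hσA : QuasiIso σA.hom :=
    inferInstanceAs (QuasiIso (θ.app I.obj ≫ ((EtModD.forgetToAb Λ X').mapHomologicalComplex _).map σ.hom))
  haveI hAb : QuasiIso (BcBridge.bcChain f g f' g' h.w σA.hom) := by
    refine quasiIso_bcChain_acyclic f g f' g' h (fun n => ?_) (fun n => ?_) (fun i => ?_) σA hσA
    · haveI := hI n
      exact (EtModAb.isRightAcyclic_iff Λ f _).1 (TriCat.isRightAcyclic_of_injective (I.obj.X n))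
    · haveI := hJ n
      exact (EtModAb.isRightAcyclic_iff Λ f' _).1 (TriCat.isRightAcyclic_of_injective (J.obj.X n))
    · exact EtFound.isTorsion_of_iso
        ((ShortComplex.mapHomologyIso (I.obj.sc i) (EtModD.forgetToAb Λ X))).symm (htor i)
  let M := BcBridge.bcCx (EtSix.pullPushModAdj Λ g) (EtSix.pushToPushPullMod Λ f g f' g' h.w) σ.hom
  let θ₂ := (NatTrans.mapHomologicalComplex (EtModAb.pullForget Λ g) (ComplexShape.up ℤ)).app
    (((EtModW.push Λ f).mapHomologicalComplex (ComplexShape.up ℤ)).obj I.obj)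
  haveI : ∀ n, IsIso (θ₂.f n) := fun n => EtModAb.isIso_pullForget Λ g _
  haveI : IsIso θ₂ := HomologicalComplex.Hom.isIso_of_components _
  have e : θ₂ ≫ ((EtModD.forgetToAb Λ S').mapHomologicalComplex (ComplexShape.up ℤ)).map M =
      BcBridge.bcChain f g f' g' h.w σA.hom := by
    refine HomologicalComplex.hom_ext _ _ fun n => ?_
    have k := EtModAb.forget_baseChange0Mod Λ f g f' g' h.w (I.obj.X n)
    show (EtModAb.pullForget Λ g).app ((EtModW.push Λ f).obj (I.obj.X n)) ≫
        (EtModD.forgetToAb Λ S').map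
          (EtSix.baseChange0Mod Λ f g f' g' h.w (I.obj.X n) ≫ (EtModW.push Λ f').map (σ.hom.f n)) =
      (BcBridge.theta (EtCoh.pullPushAdj g) (EtBC.pushToPushPull f g f' g' h.w)).app
          ((EtModD.forgetToAb Λ X).obj (I.obj.X n)) ≫
        (EtCoh.push f').map ((EtModAb.pullForget Λ g').app (I.obj.X n) ≫
          (EtModD.forgetToAb Λ X').map (σ.hom.f n))
    rw [Functor.map_comp, Functor.map_comp, reassoc_of% k, BcBridge.theta_app]
    rfl
  haveI : QuasiIso (θ₂ ≫ ((EtModD.forgetToAb Λ S').mapHomologicalComplex (ComplexShape.up ℤ)).map M) :=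
    e ▸ hAb
  haveI : QuasiIso (((EtModD.forgetToAb Λ S').mapHomologicalComplex (ComplexShape.up ℤ)).map M) :=
    quasiIso_of_comp_left θ₂ _
  exact (quasiIso_map_iff_of_preservesHomology M (EtModD.forgetToAb Λ S')).1 inferInstance

include h in
/-- proper base change on bounded below derived categories -/
theorem isIso_bcMapMod
    (adj : (EtModW.pull Λ g).rightDerivedFunctorPlus ⊣ (EtModW.push Λ g).rightDerivedFunctorPlus)
    (K : DerivedCategory.Plus (EtModW.Mod Λ X))
    (hK : ∀ i : ℤ, EtCoh.IsTorsion ((EtModD.forgetToAb Λ X).obj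
      ((DerivedCategory.Plus.homologyFunctor (EtModW.Mod Λ X) i).obj K))) :
    IsIso (EtSix.bcMapMod Λ f g f' g' h.w adj K) := by
  haveI := EtLC12.ModPullExact.pull_preservesFiniteLimits Λ g
  haveI := EtLC12.ModPullExact.pull_preservesFiniteLimits Λ g'
  have hc : ∀ {Y Z : Scheme.{u}} (p : Y ⟶ Z), PreservesFiniteColimits (EtModW.pull Λ p) := fun p =>
    haveI : PreservesColimitsOfSize.{0, 0} (EtModW.pull Λ p) :=
      (EtSix.pullPushModAdj Λ p).leftAdjoint_preservesColimits
    PreservesColimitsOfSize.preservesFiniteColimits _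
  haveI := hc g
  haveI := hc g'
  obtain ⟨I, hI, ⟨e⟩⟩ := exists_injective_rep K
  obtain ⟨J, σ, hJ, hσ⟩ := exists_res ((EtModW.pull Λ g').mapCochainComplexPlus.obj I)
  have htor : ∀ i, EtCoh.IsTorsion ((EtModD.forgetToAb Λ X).obj (I.obj.homology i)) := fun i =>
    EtFound.isTorsion_of_iso ((EtModD.forgetToAb Λ X).mapIso
      (((DerivedCategory.Plus.homologyFunctor (EtModW.Mod Λ X) i).mapIso e.symm) ≪≫
        (DerivedCategory.homologyFunctorFactorsh (EtModW.Mod Λ X) i).app _ ≪≫
        (HomotopyCategory.homologyFunctorFactors (EtModW.Mod Λ X) (ComplexShape.up ℤ) i).app I.obj)) (hK i)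
  have hq := quasiIso_bcCx_mod Λ f g f' g' h hI hJ htor σ hσ
  have h1 : IsIso (EtSix.bcMapMod Λ f g f' g' h.w adj (qo I)) :=
    isIso_transpose (EtSix.pullPushModAdj Λ g) adj (EtSix.pushToPushPullMod Λ f g f' g' h.w) σ hσ
      (isIso_unit_of_acyclic _ I fun n => haveI := hI n; TriCat.isRightAcyclic_of_injective _)
      (isIso_unit_of_acyclic _ J fun n => haveI := hJ n; TriCat.isRightAcyclic_of_injective _) hq
  let β := EtSix.bcAdjMod Λ f g f' g' h.w
  have hn : (EtModW.pull Λ g).rightDerivedFunctorPlus.map ((EtModW.push Λ f).rightDerivedFunctorPlus.map e.hom) ≫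
        EtSix.bcMapMod Λ f g f' g' h.w adj K =
      EtSix.bcMapMod Λ f g f' g' h.w adj (qo I) ≫ (EtModW.push Λ f').rightDerivedFunctorPlus.map
        ((EtModW.pull Λ g').rightDerivedFunctorPlus.map e.hom) := by
    refine (adj.homEquiv_naturality_left_symm _ _).symm.trans (Eq.trans ?_ (adj.homEquiv_naturality_right_symm _ _))
    exact congrArg _ (β.naturality e.hom)
  haveI := h1
  haveI : IsIso ((EtModW.pull Λ g).rightDerivedFunctorPlus.map ((EtModW.push Λ f).rightDerivedFunctorPlus.map e.hom) ≫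
      EtSix.bcMapMod Λ f g f' g' h.w adj K) := by rw [hn]; infer_instance
  exact IsIso.of_isIso_comp_left
    ((EtModW.pull Λ g).rightDerivedFunctorPlus.map ((EtModW.push Λ f).rightDerivedFunctorPlus.map e.hom)) _

end Groth.Agent.SixBC12
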