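import Groth.Agent.SixBC12.PlusBridge
import Groth.Agent.S3463
import Groth.Agent.AcycBase.Adj
import Groth.Agent.Lib.DerAux12

/-! proper base change on bounded below complexes of acyclic sheaves -/

set_option autoImplicit false
set_option linter.style.haveILetI false
set_option backward.isDefEq.respectTransparency false
set_option backward.isDefEq.respectTransparency.types false
set_option maxHeartbeats 1000000

universe u

open CategoryTheory CategoryTheory.Limits AlgebraicGeometry HomologicalComplex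

attribute [local instance] HasDerivedCategory.standard

namespace Groth.Agent.SixBC12

theorem exists_res {A : Type (u + 1)} [Category.{u} A] [Abelian A] [EnoughInjectives A] (K : CochainComplex.Plus A) :
    ∃ (M : CochainComplex.Plus A) (s : K ⟶ M), (∀ n, Injective (M.obj.X n)) ∧ QuasiIso s.hom := by
  obtain ⟨L, s, hs, -⟩ := TriCat.exists_mono_injective_resolution K
  exact ⟨_, s, fun n => (L.obj.X n).2, hs⟩

theorem bcCx_naturality {A B C D : Type (u + 1)} [Category.{u} A] [Category.{u} B] [Category.{u} C] [Category.{u} D]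
    [Abelian A] [Abelian B] [Abelian C] [Abelian D]
    {P : A ⥤ B} [P.Additive] {Q : A ⥤ C} [Q.Additive] {S : C ⥤ D} [S.Additive] {T : D ⥤ B} [T.Additive]
    {G : B ⥤ D} [G.Additive] (adj : G ⊣ T) (ptp : P ⟶ Q ⋙ S ⋙ T) {K K' : CochainComplex A ℤ}
    {L : CochainComplex C ℤ} (s : K ⟶ K') (σ : (Q.mapHomologicalComplex (ComplexShape.up ℤ)).obj K' ⟶ L) :
    BcBridge.bcCx adj ptp ((Q.mapHomologicalComplex (ComplexShape.up ℤ)).map s ≫ σ) =
      (G.mapHomologicalComplex (ComplexShape.up ℤ)).map ((P.mapHomologicalComplex (ComplexShape.up ℤ)).map s) ≫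
        BcBridge.bcCx adj ptp σ := by
  refine HomologicalComplex.hom_ext _ _ fun i => ?_
  have h := (BcBridge.theta adj ptp).naturality (s.f i)
  show (BcBridge.theta adj ptp).app (K.X i) ≫ S.map (Q.map (s.f i) ≫ σ.f i) =
    G.map (P.map (s.f i)) ≫ (BcBridge.theta adj ptp).app (K'.X i) ≫ S.map (σ.f i)
  rw [Functor.map_comp, ← Category.assoc, ← Category.assoc]
  exact congrArg (· ≫ _) h.symm

variable {X S X' S' : Scheme.{u}} (f : X ⟶ S) (g : S' ⟶ S) (f' : X' ⟶ S') (g' : X' ⟶ X)
  (h : IsPullback g' f' f g) [IsProper f]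

include h in
/-- on complexes of injective sheaves with torsion cohomology -/
theorem quasiIso_bcChain_injective {A : CochainComplex.Plus (EtCoh.Ab X)} {B : CochainComplex.Plus (EtCoh.Ab X')}
    (hA : ∀ n, Injective (A.obj.X n)) (hB : ∀ n, Injective (B.obj.X n))
    (htor : ∀ i, EtCoh.IsTorsion (A.obj.homology i))
    (σ : (EtCoh.pull g').mapCochainComplexPlus.obj A ⟶ B) (hσ : QuasiIso σ.hom) :
    QuasiIso (BcBridge.bcChain f g f' g' h.w σ.hom) := by
  haveI := EtFound.pull_preservesFiniteLimits g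
  haveI := EtFound.pull_preservesFiniteLimits g'
  haveI := DerAux12.hasRpushEt f
  haveI := DerAux12.hasRpushEt f'
  haveI := DerAux12.hasRpushEt g
  obtain ⟨adj⟩ := AcycBase.nonempty_pullD_adj g
  haveI := isKInjective_of_injective A hA
  haveI := isKInjective_of_injective B hB
  haveI := hσ
  obtain ⟨n, hn⟩ := A.2
  haveI := hn
  let e := (DerivedCategory.quotientCompQhIso (EtCoh.Ab X)).app A.obj
  haveI : (DerivedCategory.Q.obj A.obj).IsGE n := inferInstance
  haveI : (BcBridge.qq A.obj).IsGE n := DerivedCategory.TStructure.t.isGE_of_iso e.symm n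
  refine (BcBridge.isIso_bcMap_iff f g f' g' h.w adj A.obj B.obj σ.hom (Iso.refl _)).1 ?_
  refine S3463.result f g f' g' h adj (BcBridge.qq A.obj) n fun i => ?_
  exact EtFound.isTorsion_of_iso ((BcBridge.hqIso X i).app A.obj).symm (htor i)

include h in
/-- on complexes of acyclic sheaves with torsion cohomology -/
theorem quasiIso_bcChain_acyclic {A : CochainComplex.Plus (EtCoh.Ab X)} {B : CochainComplex.Plus (EtCoh.Ab X')}
    (hA : ∀ n, TriCat.IsRightAcyclic (EtCoh.push f) (A.obj.X n))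
    (hB : ∀ n, TriCat.IsRightAcyclic (EtCoh.push f') (B.obj.X n))
    (htor : ∀ i, EtCoh.IsTorsion (A.obj.homology i))
    (σ : (EtCoh.pull g').mapCochainComplexPlus.obj A ⟶ B) (hσ : QuasiIso σ.hom) :
    QuasiIso (BcBridge.bcChain f g f' g' h.w σ.hom) := by
  haveI := EtFound.pull_preservesFiniteLimits g
  haveI := EtFound.pull_preservesFiniteLimits g'
  haveI := BcMapZero.preservesFiniteLimits_push f
  haveI := BcMapZero.preservesFiniteLimits_push f'
  obtain ⟨A', s, hA', hs⟩ := exists_res A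
  obtain ⟨B', σ', hB', hσ'⟩ := exists_res ((EtCoh.pull g').mapCochainComplexPlus.obj A')
  haveI := isKInjective_of_injective B' hB'
  haveI := hs
  haveI := hσ
  haveI := hσ'
  haveI h1 : QuasiIso (BcBridge.bcChain f g f' g' h.w σ'.hom) :=
    quasiIso_bcChain_injective f g f' g' h hA' hB'
      (fun i => EtFound.isTorsion_of_iso (@isoOfQuasiIsoAt _ _ _ _ _ _ _ s.hom i _ _ (hs.quasiIsoAt i)) (htor i)) σ' hσ'
  haveI hq : QuasiIso ((((EtCoh.pull g').mapCochainComplexPlus.map s) ≫ σ').hom) :=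
    inferInstanceAs (QuasiIso (((EtCoh.pull g').mapHomologicalComplex (ComplexShape.up ℤ)).map s.hom ≫ σ'.hom))
  haveI := isIso_qp σ hσ
  haveI := isIso_qp _ hq
  obtain ⟨τ, hτ⟩ := qp_surjective (inv (qp σ) ≫ qp ((EtCoh.pull g').mapCochainComplexPlus.map s ≫ σ'))
  haveI hτq : QuasiIso τ.hom := (TriCat.isIso_plusQh_quotient_map_iff τ).1 (by
    show IsIso (qp τ)
    rw [hτ]; infer_instance)
  obtain ⟨H⟩ := nonempty_homotopy_of_qp_eq (f := σ ≫ τ) (g := (EtCoh.pull g').mapCochainComplexPlus.map s ≫ σ')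
    (by rw [qp_comp, hτ, IsIso.hom_inv_id_assoc])
  haveI : QuasiIso (((EtCoh.push f').mapHomologicalComplex (ComplexShape.up ℤ)).map τ.hom) :=
    quasiIso_map_of_acyclic (EtCoh.push f') τ hτq hB
      (fun n => haveI := hB' n; TriCat.isRightAcyclic_of_injective _)
  haveI : QuasiIso (((EtCoh.push f).mapHomologicalComplex (ComplexShape.up ℤ)).map s.hom) :=
    quasiIso_map_of_acyclic (EtCoh.push f) s hs hA
      (fun n => haveI := hA' n; TriCat.isRightAcyclic_of_injective _)
  let bc {M : CochainComplex (EtCoh.Ab X') ℤ}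
      (θ : ((EtCoh.pull g').mapHomologicalComplex (ComplexShape.up ℤ)).obj A.obj ⟶ M) :=
    BcBridge.bcChain f g f' g' h.w θ
  have e1 : bc σ.hom ≫ ((EtCoh.push f').mapHomologicalComplex (ComplexShape.up ℤ)).map τ.hom = bc (σ.hom ≫ τ.hom) := by
    simp [bc, BcBridge.bcChain, BcBridge.bcCx]
  have H' : Homotopy (bc (σ.hom ≫ τ.hom))
      (((EtCoh.pull g).mapHomologicalComplex (ComplexShape.up ℤ)).map
        (((EtCoh.push f).mapHomologicalComplex (ComplexShape.up ℤ)).map s.hom) ≫
        BcBridge.bcChain f g f' g' h.w σ'.hom) :=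
    (((EtCoh.push f').mapHomotopy H).compLeft _).trans
      (Homotopy.ofEq (bcCx_naturality (EtCoh.pullPushAdj g) (EtBC.pushToPushPull f g f' g' h.w) s.hom σ'.hom))
  haveI hR : QuasiIso (((EtCoh.pull g).mapHomologicalComplex (ComplexShape.up ℤ)).map
        (((EtCoh.push f).mapHomologicalComplex (ComplexShape.up ℤ)).map s.hom) ≫
        BcBridge.bcChain f g f' g' h.w σ'.hom) := inferInstance
  haveI : QuasiIso (bc (σ.hom ≫ τ.hom)) := (quasiIso_iff _).2 fun i => by
    rw [quasiIsoAt_iff_isIso_homologyMap, H'.homologyMap_eq i, ← quasiIsoAt_iff_isIso_homologyMap]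
    exact hR.quasiIsoAt i
  haveI : QuasiIso (bc σ.hom ≫ ((EtCoh.push f').mapHomologicalComplex (ComplexShape.up ℤ)).map τ.hom) :=
    e1 ▸ inferInstance
  exact quasiIso_of_comp_right (bc σ.hom) (((EtCoh.push f').mapHomologicalComplex (ComplexShape.up ℤ)).map τ.hom)

end Groth.Agent.SixBC12
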