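import Groth.Agent.BcBridge.Derived
import Groth.Agent.TriCat.RPlusUnit
import Groth.Agent.TriCat.AcyclicObj
import Groth.Agent.H9Misc.PlusRB
import Groth.Agent.SiteBase.KInjAdj
import Groth.Prelude.Def_SixF1

/-! a derived square on bounded below derived categories is the transposed map of complexes -/

set_option autoImplicit false
set_option linter.style.haveILetI false
set_option linter.unusedSectionVars false
set_option backward.isDefEq.respectTransparency false
set_option backward.isDefEq.respectTransparency.types false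
set_option maxHeartbeats 1000000

universe u

open CategoryTheory CategoryTheory.Limits

attribute [local instance] HasDerivedCategory.standard

namespace Groth.Agent.SixBC12

variable {A B C D : Type (u + 1)} [Category.{u} A] [Category.{u} B] [Category.{u} C] [Category.{u} D]
  [Abelian A] [Abelian B] [Abelian C] [Abelian D]

/-- a bounded below complex in the derived category -/
noncomputable abbrev qo (K : CochainComplex.Plus A) : DerivedCategory.Plus A :=
  DerivedCategory.Plus.Qh.obj ((HomotopyCategory.Plus.quotient A).obj K)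

/-- a map of bounded below complexes in the derived category -/
noncomputable abbrev qp {K L : CochainComplex.Plus A} (f : K ⟶ L) : qo K ⟶ qo L :=
  DerivedCategory.Plus.Qh.map ((HomotopyCategory.Plus.quotient A).map f)

theorem qp_comp {K L M : CochainComplex.Plus A} (f : K ⟶ L) (g : L ⟶ M) : qp (f ≫ g) = qp f ≫ qp g := by
  simp only [qp, Functor.map_comp]

theorem qp_eq_of_homotopy {K L : CochainComplex.Plus A} (f g : K ⟶ L) (h : Homotopy f.hom g.hom) : qp f = qp g :=
  congrArg DerivedCategory.Plus.Qh.map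
    ((HomotopyCategory.Plus.ι A).map_injective (HomotopyCategory.eq_of_homotopy _ _ h))

theorem qp_bijective (K M : CochainComplex.Plus A) [M.obj.IsKInjective] :
    Function.Bijective
      (DerivedCategory.Plus.Qh.map :
        ((HomotopyCategory.Plus.quotient A).obj K ⟶ (HomotopyCategory.Plus.quotient A).obj M) → _) :=
  DerivedCategory.Plus.Qh_map_bijective_of_isKInjective _ _ ‹_›

theorem qp_surjective {K M : CochainComplex.Plus A} [M.obj.IsKInjective] (y : qo K ⟶ qo M) :
    ∃ χ : K ⟶ M, qp χ = y := by
  obtain ⟨χ', rfl⟩ := (qp_bijective K M).2 y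
  obtain ⟨χ, hχ⟩ := (HomotopyCategory.quotient A (ComplexShape.up ℤ)).map_surjective
    ((HomotopyCategory.Plus.ι A).map χ')
  exact ⟨ObjectProperty.homMk χ, congrArg DerivedCategory.Plus.Qh.map
    ((HomotopyCategory.Plus.ι A).map_injective hχ)⟩

theorem nonempty_homotopy_of_qp_eq {K M : CochainComplex.Plus A} [M.obj.IsKInjective] {f g : K ⟶ M}
    (h : qp f = qp g) : Nonempty (Homotopy f.hom g.hom) :=
  ⟨HomotopyCategory.homotopyOfEq _ _ (congrArg (HomotopyCategory.Plus.ι A).map ((qp_bijective K M).1 h))⟩

/-- every object of `D⁺` is given by a bounded below complex of injectives -/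
theorem exists_injective_rep [EnoughInjectives A] (Y : DerivedCategory.Plus A) :
    ∃ M : CochainComplex.Plus A, (∀ n, Injective (M.obj.X n)) ∧ Nonempty (qo M ≅ Y) := by
  obtain ⟨I, -, hI, e⟩ := H9Misc.PlusRB.exists_rep Y
  obtain ⟨M, rfl⟩ := HomotopyCategory.Plus.quotient_obj_surjective I
  exact ⟨M, hI, e⟩

theorem isKInjective_of_injective (M : CochainComplex.Plus A) (h : ∀ n, Injective (M.obj.X n)) :
    M.obj.IsKInjective := by
  obtain ⟨n, hn⟩ := M.2
  haveI := hn
  haveI := h
  exact CochainComplex.isKInjective_of_injective M.obj n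

theorem isIso_qp {K L : CochainComplex.Plus A} (f : K ⟶ L) (h : QuasiIso f.hom) : IsIso (qp f) :=
  (TriCat.isIso_plusQh_quotient_map_iff f).2 h

/-- units at complexes of acyclic objects -/
theorem isIso_unit_of_acyclic [EnoughInjectives A] (F : A ⥤ B) [F.Additive] [PreservesFiniteLimits F]
    (K : CochainComplex.Plus A) (hK : ∀ n, TriCat.IsRightAcyclic F (K.obj.X n)) :
    IsIso (F.rightDerivedFunctorPlusUnit.app ((HomotopyCategory.Plus.quotient A).obj K)) :=
  TriCat.isIso_unit_of_adapted F TriCat.isAdapted_isRightAcyclic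
    (fun X => ⟨Injective.under X, Injective.ι X, TriCat.isRightAcyclic_of_injective _, inferInstance⟩) K hK

/-- quasi-isomorphisms between bounded below complexes of acyclic objects are preserved -/
theorem quasiIso_map_of_acyclic [EnoughInjectives A] (F : A ⥤ B) [F.Additive] [PreservesFiniteLimits F]
    {K L : CochainComplex.Plus A} (f : K ⟶ L) (hf : QuasiIso f.hom)
    (hK : ∀ n, TriCat.IsRightAcyclic F (K.obj.X n)) (hL : ∀ n, TriCat.IsRightAcyclic F (L.obj.X n)) :
    QuasiIso ((F.mapHomologicalComplex (ComplexShape.up ℤ)).map f.hom) := by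
  rw [← TriCat.isIso_mapPlusQh_iff F f]
  haveI := isIso_unit_of_acyclic F K hK
  haveI := isIso_unit_of_acyclic F L hL
  haveI := isIso_qp f hf
  have nat := F.rightDerivedFunctorPlusUnit.naturality ((HomotopyCategory.Plus.quotient A).map f)
  haveI : IsIso ((DerivedCategory.Plus.Qh ⋙ F.rightDerivedFunctorPlus).map
      ((HomotopyCategory.Plus.quotient A).map f)) :=
    inferInstanceAs (IsIso (F.rightDerivedFunctorPlus.map (qp f)))
  haveI : IsIso ((F.mapHomotopyCategoryPlus ⋙ DerivedCategory.Plus.Qh).map
      ((HomotopyCategory.Plus.quotient A).map f) ≫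
      F.rightDerivedFunctorPlusUnit.app ((HomotopyCategory.Plus.quotient A).obj L)) := nat ▸ IsIso.comp_isIso
  exact IsIso.of_isIso_comp_right ((F.mapHomotopyCategoryPlus ⋙ DerivedCategory.Plus.Qh).map
      ((HomotopyCategory.Plus.quotient A).map f))
    (F.rightDerivedFunctorPlusUnit.app ((HomotopyCategory.Plus.quotient A).obj L))

section Square

variable [EnoughInjectives A] [EnoughInjectives B] [EnoughInjectives C] [EnoughInjectives D]
  {P : A ⥤ B} [P.Additive] {Q : A ⥤ C} [Q.Additive] [PreservesFiniteLimits Q] [PreservesFiniteColimits Q]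
  {S : C ⥤ D} [S.Additive] [PreservesFiniteLimits S] {T : D ⥤ B} [T.Additive] [PreservesFiniteLimits T]
  {G : B ⥤ D} [G.Additive] [PreservesFiniteLimits G] [PreservesFiniteColimits G]
  (adj : G ⊣ T) (adjD : G.rightDerivedFunctorPlus ⊣ T.rightDerivedFunctorPlus) (ptp : P ⟶ Q ⋙ S ⋙ T)

/-- the unit of an inverse image on bounded below complexes -/
noncomputable def etaP (K : CochainComplex.Plus B) :
    K ⟶ T.mapCochainComplexPlus.obj (G.mapCochainComplexPlus.obj K) :=
  ObjectProperty.homMk (BcBridge.etaCx adj K.obj)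

/-- the unit of the derived functor on a complex -/
noncomputable abbrev unitP {E F : Type (u + 1)} [Category.{u} E] [Category.{u} F] [Abelian E] [Abelian F]
    [EnoughInjectives E] (H : E ⥤ F) [H.Additive] (K : CochainComplex.Plus E) :
    qo (H.mapCochainComplexPlus.obj K) ⟶ H.rightDerivedFunctorPlus.obj (qo K) :=
  H.rightDerivedFunctorPlusUnit.app ((HomotopyCategory.Plus.quotient E).obj K)

theorem unitP_natural {E F : Type (u + 1)} [Category.{u} E] [Category.{u} F] [Abelian E] [Abelian F]
    [EnoughInjectives E] (H : E ⥤ F) [H.Additive] {K L : CochainComplex.Plus E} (f : K ⟶ L) :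
    qp (H.mapCochainComplexPlus.map f) ≫ unitP H L = unitP H K ≫ H.rightDerivedFunctorPlus.map (qp f) :=
  H.rightDerivedFunctorPlusUnit.naturality ((HomotopyCategory.Plus.quotient E).map f)

/-- the comparison of the two inverse images of a complex -/
noncomputable def thetaP (K : CochainComplex.Plus B) :
    G.rightDerivedFunctorPlus.obj (qo K) ⟶ qo (G.mapCochainComplexPlus.obj K) :=
  (adjD.homEquiv _ _).symm (qp (etaP adj K) ≫ unitP T _)

theorem thetaP_comp {K : CochainComplex.Plus B} {M : CochainComplex.Plus D}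
    (ψ : G.mapCochainComplexPlus.obj K ⟶ M) :
    thetaP adj adjD K ≫ qp ψ = (adjD.homEquiv _ _).symm
      (qp (etaP adj K ≫ T.mapCochainComplexPlus.map ψ) ≫ unitP T M) := by
  rw [thetaP, ← adjD.homEquiv_naturality_right_symm, Category.assoc, ← unitP_natural, qp_comp, Category.assoc]

theorem bijective_thetaP_comp (K : CochainComplex.Plus B) (M : CochainComplex.Plus D)
    (hM : ∀ n, Injective (M.obj.X n)) :
    Function.Bijective fun φ : qo (G.mapCochainComplexPlus.obj K) ⟶ qo M => thetaP adj adjD K ≫ φ := by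
  haveI := isKInjective_of_injective M hM
  haveI : IsIso (unitP T M) := isIso_unit_of_acyclic T M
    (fun n => haveI := hM n; TriCat.isRightAcyclic_of_injective _)
  haveI : (T.mapCochainComplexPlus.obj M).obj.IsKInjective := SiteBase.isKInjective_map adj M.obj
  refine ⟨fun φ φ' h => ?_, fun y => ?_⟩
  · obtain ⟨ψ, rfl⟩ := qp_surjective φ
    obtain ⟨χ, rfl⟩ := qp_surjective φ'
    simp only [thetaP_comp] at h
    obtain ⟨h2⟩ := nonempty_homotopy_of_qp_eq
      ((cancel_mono (unitP T M)).1 ((adjD.homEquiv _ _).symm.injective h))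
    exact qp_eq_of_homotopy _ _ (((Homotopy.ofEq (BcBridge.flat_etaCx adj ψ.hom).symm).trans
      (BcBridge.flatHomotopy adj h2)).trans (Homotopy.ofEq (BcBridge.flat_etaCx adj χ.hom)))
  · obtain ⟨χ, hχ⟩ := qp_surjective ((adjD.homEquiv _ _) y ≫ inv (unitP T M))
    let ψ : G.mapCochainComplexPlus.obj K ⟶ M := ObjectProperty.homMk (BcBridge.flat adj χ.hom)
    have hψ : etaP adj K ≫ T.mapCochainComplexPlus.map ψ = χ :=
      ObjectProperty.hom_ext _ (BcBridge.etaCx_flat adj χ.hom)
    refine ⟨qp ψ, (thetaP_comp adj adjD ψ).trans ?_⟩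
    rw [hψ, hχ, Category.assoc, IsIso.inv_hom_id, Category.comp_id, Equiv.symm_apply_apply]

theorem isIso_thetaP (K : CochainComplex.Plus B) : IsIso (thetaP adj adjD K) := by
  refine isIso_of_coyoneda_map_bijective _ fun Y => ?_
  obtain ⟨M, hM, ⟨e⟩⟩ := exists_injective_rep Y
  have hb := bijective_thetaP_comp adj adjD K M hM
  have h2 := (e.homToEquiv).bijective.comp (hb.comp (e.symm.homToEquiv).bijective)
  refine (funext fun φ => ?_ :
    _ = fun φ : qo (G.mapCochainComplexPlus.obj K) ⟶ Y => thetaP adj adjD K ≫ φ) ▸ h2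
  simp [Iso.homToEquiv]

/-- the chain map of a square -/
noncomputable def preP {I : CochainComplex.Plus A} {J : CochainComplex.Plus C}
    (σ : Q.mapCochainComplexPlus.obj I ⟶ J) :
    P.mapCochainComplexPlus.obj I ⟶ T.mapCochainComplexPlus.obj (S.mapCochainComplexPlus.obj J) :=
  ObjectProperty.homMk (BcBridge.preCx ptp σ.hom)

/-- the transposed chain map of a square -/
noncomputable def bcP {I : CochainComplex.Plus A} {J : CochainComplex.Plus C}
    (σ : Q.mapCochainComplexPlus.obj I ⟶ J) :
    G.mapCochainComplexPlus.obj (P.mapCochainComplexPlus.obj I) ⟶ S.mapCochainComplexPlus.obj J :=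
  ObjectProperty.homMk (BcBridge.bcCx adj ptp σ.hom)

/-- the first map in the unit of the square -/
noncomputable def tripP (I : CochainComplex.Plus A) :
    (HomotopyCategory.Plus.quotient B).obj (P.mapCochainComplexPlus.obj I) ⟶
      (HomotopyCategory.Plus.quotient B).obj
        (T.mapCochainComplexPlus.obj (S.mapCochainComplexPlus.obj (Q.mapCochainComplexPlus.obj I))) :=
  (EtSix.plusNatTrans ptp ≫ (Functor.mapHomotopyCategoryPlusCompIso (Iso.refl (Q ⋙ (S ⋙ T)))).inv ≫
      Functor.whiskerLeft Q.mapHomotopyCategoryPlus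
        (Functor.mapHomotopyCategoryPlusCompIso (Iso.refl (S ⋙ T))).inv).app
    ((HomotopyCategory.Plus.quotient A).obj I)

theorem tripP_comp {I : CochainComplex.Plus A} {J : CochainComplex.Plus C}
    (σ : Q.mapCochainComplexPlus.obj I ⟶ J) :
    tripP ptp I ≫ (HomotopyCategory.Plus.quotient B).map
        (T.mapCochainComplexPlus.map (S.mapCochainComplexPlus.map σ)) =
      (HomotopyCategory.Plus.quotient B).map (preP ptp σ) := by
  apply (HomotopyCategory.Plus.ι B).map_injective
  rw [Functor.map_comp]
  show ((HomotopyCategory.quotient B (ComplexShape.up ℤ)).map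
        ((NatTrans.mapHomologicalComplex ptp (ComplexShape.up ℤ)).app I.obj) ≫
      (HomotopyCategory.quotient B (ComplexShape.up ℤ)).map
        ((Functor.mapHomologicalComplexCompIso (Iso.refl (Q ⋙ (S ⋙ T))) (ComplexShape.up ℤ)).inv.app I.obj) ≫
      (HomotopyCategory.quotient B (ComplexShape.up ℤ)).map
        ((Functor.mapHomologicalComplexCompIso (Iso.refl (S ⋙ T)) (ComplexShape.up ℤ)).inv.app
          ((Q.mapHomologicalComplex (ComplexShape.up ℤ)).obj I.obj))) ≫
      (HomotopyCategory.quotient B (ComplexShape.up ℤ)).map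
        ((T.mapHomologicalComplex (ComplexShape.up ℤ)).map ((S.mapHomologicalComplex (ComplexShape.up ℤ)).map σ.hom)) =
      (HomotopyCategory.quotient B (ComplexShape.up ℤ)).map (BcBridge.preCx ptp σ.hom)
  simp only [← Functor.map_comp]
  refine congrArg (HomotopyCategory.quotient B (ComplexShape.up ℤ)).map ?_
  ext n
  simp [BcBridge.preCx]
  erw [Category.id_comp, Category.id_comp]

/-- the derived transpose at a complex of injectives is the transposed chain map -/
theorem isIso_transpose {I : CochainComplex.Plus A} {J : CochainComplex.Plus C}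
    (σ : Q.mapCochainComplexPlus.obj I ⟶ J) (hσ : QuasiIso σ.hom)
    (hI : IsIso (unitP P I)) (hJ : IsIso (unitP S J)) (h : QuasiIso (BcBridge.bcCx adj ptp σ.hom)) :
    IsIso ((adjD.homEquiv _ _).symm ((EtSix.rPlusDesc₃ ptp).app (qo I))) := by
  let β := EtSix.rPlusDesc₃ ptp
  haveI : IsIso Q.rightDerivedFunctorPlusUnit :=
    Functor.isIso_of_isRightDerivedFunctor_of_inverts (W := HomotopyCategory.Plus.quasiIso A) _ _
      H9Misc.PlusRB.inverts_of_exact
  haveI := isIso_qp σ hσ
  haveI : IsIso (qp (bcP adj ptp σ)) := isIso_qp (bcP adj ptp σ) h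
  haveI := isIso_thetaP adj adjD (P.mapCochainComplexPlus.obj I)
  haveI : IsIso (unitP Q I) := NatIso.isIso_app_of_isIso Q.rightDerivedFunctorPlusUnit _
  let pullTo : Q.rightDerivedFunctorPlus.obj (qo I) ⟶ qo J := inv (unitP Q I) ≫ qp σ
  have h2 : unitP P I ≫ β.app (qo I) =
      DerivedCategory.Plus.Qh.map (tripP ptp I) ≫ unitP T _ ≫
        T.rightDerivedFunctorPlus.map (unitP S _) ≫
        T.rightDerivedFunctorPlus.map (S.rightDerivedFunctorPlus.map (unitP Q I)) := by
    refine (Functor.rightDerived_fac_app P.rightDerivedFunctorPlus P.rightDerivedFunctorPlusUnit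
      (HomotopyCategory.Plus.quasiIso A) _ (EtSix.rPlusUnit₃ ptp) _).trans ?_
    simp [EtSix.rPlusUnit₃, tripP]
    rfl
  have hc := BcBridge.chain (RS := S.rightDerivedFunctorPlus) (RT := T.rightDerivedFunctorPlus) (h₂ := h2)
    (fh := inv (unitP Q I)) (h₃ := IsIso.hom_inv_id _) (h₄ := unitP_natural S σ)
    (h₅ := unitP_natural T (S.mapCochainComplexPlus.map σ))
    (h₀ := (DerivedCategory.Plus.Qh.map_comp _ _).symm.trans
      (congrArg DerivedCategory.Plus.Qh.map (tripP_comp ptp σ)))
  have hflat : etaP adj (P.mapCochainComplexPlus.obj I) ≫ T.mapCochainComplexPlus.map (bcP adj ptp σ) =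
      preP ptp σ := by
    refine ObjectProperty.hom_ext _ ?_
    show BcBridge.etaCx adj _ ≫ (T.mapHomologicalComplex _).map (BcBridge.bcCx adj ptp σ.hom) = _
    rw [← BcBridge.flat_preCx adj ptp σ.hom]
    exact BcBridge.etaCx_flat adj _
  have key : G.rightDerivedFunctorPlus.map (unitP P I) ≫ (adjD.homEquiv _ _).symm (β.app (qo I)) ≫
      S.rightDerivedFunctorPlus.map pullTo = thetaP adj adjD _ ≫ qp (bcP adj ptp σ) ≫ unitP S J := by
    rw [← adjD.homEquiv_naturality_right_symm, ← adjD.homEquiv_naturality_left_symm]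
    refine (congrArg (adjD.homEquiv _ _).symm (((Category.assoc _ _ _).symm.trans hc))).trans ?_
    rw [← Category.assoc, adjD.homEquiv_naturality_right_symm, ← Category.assoc (thetaP adj adjD _), thetaP_comp,
      hflat]
  haveI : IsIso (G.rightDerivedFunctorPlus.map (unitP P I) ≫ (adjD.homEquiv _ _).symm (β.app (qo I)) ≫
      S.rightDerivedFunctorPlus.map pullTo) := by
    rw [key]; infer_instance
  haveI := IsIso.of_isIso_comp_left (G.rightDerivedFunctorPlus.map (unitP P I))
    ((adjD.homEquiv _ _).symm (β.app (qo I)) ≫ S.rightDerivedFunctorPlus.map pullTo)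
  exact IsIso.of_isIso_comp_right _ (S.rightDerivedFunctorPlus.map pullTo)

end Square

end Groth.Agent.SixBC12
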